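import Cfsg.Agent.Lib.H16.G23.Tab

/-!
# Tables for the elements of order `7`, `13` and `6` of `G₂(3)` on the `7`-dimensional ideal
-/

set_option autoImplicit false
set_option maxRecDepth 100000

namespace Cfsg.Agent.H16.G23

open Matrix

/-- a coded matrix -/
def cm (c : ℕ) : Matrix (Fin 7) (Fin 7) K3 := Matrix.of (entry c)

/-- powers of the element of order `7` -/
def M7c : Array ℕ := #[79778602595634228233767, 81748328070246000660466, 186662504849272984486996, 120999681384060457494131, 81650754932265418582358, 157070796993266264104813, 213871215224527499912617, 79778602595634228233767]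
/-- powers of the element of order `7` -/
def M7 (k : ℕ) : Matrix (Fin 7) (Fin 7) K3 := cm (M7c.getD k 0)
/-- powers of the element of order `13` -/
def M13c : Array ℕ := #[79778602595634228233767, 80693529668692928294785, 67230825024814880178235, 68806006288462182961168, 120990438173165790450547, 182366557684996839297832, 4940231182390274205742, 101643871589659299145069, 3959656750904374424545, 180878025531643414265221, 150557880860653448721184, 39673592692725548909371, 38281872479836873808605, 79778602595634228233767]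
/-- powers of the element of order `13` -/
def M13 (k : ℕ) : Matrix (Fin 7) (Fin 7) K3 := cm (M13c.getD k 0)
/-- powers of the element of order `6` -/
def M6c : Array ℕ := #[79778602595634228233767, 80763673687095364511851, 985072944763883826253, 159557203337965838079211, 161526895236971759284813, 1969693752308668753771, 79778602595634228233767]
/-- powers of the element of order `6` -/
def M6 (k : ℕ) : Matrix (Fin 7) (Fin 7) K3 := cm (M6c.getD k 0)

/-- the seventh cyclotomic polynomial of the element of order `7` -/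
def S7 : Matrix (Fin 7) (Fin 7) K3 := cm 4325125921670034
/-- the right-hand side of the relation for order `7` -/
def R7 : Matrix (Fin 7) (Fin 7) K3 := cm 157514323916978278620339
/-- the cubic of the element of order `13` -/
def S13 : Matrix (Fin 7) (Fin 7) K3 := cm 148002141430793686875140
/-- inverse of the basis matrix for order `7` -/
def Bi7 : Matrix (Fin 7) (Fin 7) K3 := cm 20690511915784884218184
/-- inverse of the basis matrix for order `13` -/
def Bi13 : Matrix (Fin 7) (Fin 7) K3 := cm 85792905839998994507427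

/-- the cyclic vector for order `7` -/
def v7 : V7 := ![0, 0, 0, 0, 0, 0, 1]
/-- the cyclic vector for order `13` -/
def v13 : V7 := ![0, 0, 0, 1, 0, 0, 1]

theorem M7_zero : M7 0 = 1 := by decide +kernel
theorem M7_one : XT 0 1 * XT 1 1 * XT 3 1 * XT 11 1 = M7 1 := by decide +kernel
theorem M7_succ : ∀ k : Fin 7, M7 k.val * M7 1 = M7 (k.val + 1) := by decide +kernel
theorem M7_seven : M7 7 = 1 := by decide +kernel

theorem M13_zero : M13 0 = 1 := by decide +kernel
theorem M13_one : XT 0 1 * XT 4 1 * XT 9 1 = M13 1 := by decide +kernel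
theorem M13_succ : ∀ k : Fin 13, M13 k.val * M13 1 = M13 (k.val + 1) := by decide +kernel
theorem M13_thirteen : M13 13 = 1 := by decide +kernel

theorem M6_zero : M6 0 = 1 := by decide +kernel
theorem M6_one : XT 0 1 * XT 11 2 = M6 1 := by decide +kernel
theorem M6_succ : ∀ k : Fin 6, M6 k.val * M6 1 = M6 (k.val + 1) := by decide +kernel
theorem M6_six : M6 6 = 1 := by decide +kernel
theorem M6_two : M6 2 ≠ 1 := by decide +kernel
theorem M6_three : M6 3 ≠ 1 := by decide +kernel

theorem XT_ne : XT 7 1 ≠ 1 := by decide +kernel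
theorem M7_one_ne : M7 1 ≠ 1 := by decide +kernel
theorem M13_one_ne : M13 1 ≠ 1 := by decide +kernel
theorem v7_ne : v7 ≠ 0 := by decide +kernel
theorem v13_ne : v13 ≠ 0 := by decide +kernel

theorem S7_eq : S7 = M7 0 + M7 1 + M7 2 + M7 3 + M7 4 + M7 5 + M7 6 := by decide +kernel
theorem R7_eq : R7 = (2 : K3) • M7 0 + (2 : K3) • M7 1 + (2 : K3) • M7 4 + M7 5 := by decide +kernel
theorem S7_v : S7 *ᵥ v7 = 0 := by decide +kernel
theorem R7_v : P7 v7 (M7 3 *ᵥ v7) = R7 *ᵥ v7 := by decide +kernel

theorem orbit7 : ∀ a0 a1 a2 a3 a4 a5 a6 : K3,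
    (![a0, a1, a2, a3, a4, a5, a6] : V7) ≠ 0 →
    S7 *ᵥ (![a0, a1, a2, a3, a4, a5, a6] : V7) = 0 →
    P7 ![a0, a1, a2, a3, a4, a5, a6] (M7 3 *ᵥ (![a0, a1, a2, a3, a4, a5, a6] : V7)) =
      R7 *ᵥ (![a0, a1, a2, a3, a4, a5, a6] : V7) →
    ∃ i : Fin 7, (![a0, a1, a2, a3, a4, a5, a6] : V7) = M7 i.val *ᵥ v7 := by decide +kernel

/-- the basis for order `7` -/
def T7 (t : Fin 7) : V7 := if t.val < 6 then M7 t.val *ᵥ v7 else P7 v7 (M7 1 *ᵥ v7)
/-- the basis matrix for order `7` -/
def B7 : Matrix (Fin 7) (Fin 7) K3 := Matrix.of fun k t => T7 t k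
theorem B7_inv : B7 * Bi7 = 1 := by decide +kernel

theorem S13_eq : S13 = M13 3 + (2 : K3) • M13 1 + (2 : K3) • M13 0 := by decide +kernel
theorem S13_v : S13 *ᵥ v13 = 0 := by decide +kernel
theorem R13_v : P7 (P7 v13 (M13 1 *ᵥ v13)) (P7 v13 (M13 2 *ᵥ v13)) = v13 := by decide +kernel

theorem orbit13 : ∀ a0 a1 a2 a3 a4 a5 a6 : K3,
    (![a0, a1, a2, a3, a4, a5, a6] : V7) ≠ 0 →
    S13 *ᵥ (![a0, a1, a2, a3, a4, a5, a6] : V7) = 0 →
    P7 (P7 ![a0, a1, a2, a3, a4, a5, a6] (M13 1 *ᵥ (![a0, a1, a2, a3, a4, a5, a6] : V7)))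
        (P7 ![a0, a1, a2, a3, a4, a5, a6] (M13 2 *ᵥ (![a0, a1, a2, a3, a4, a5, a6] : V7))) =
      ![a0, a1, a2, a3, a4, a5, a6] →
    ∃ i : Fin 13, (![a0, a1, a2, a3, a4, a5, a6] : V7) = M13 i.val *ᵥ v13 := by decide +kernel

/-- the basis for order `13` -/
def T13 (t : Fin 7) : V7 :=
  if t.val < 3 then M13 t.val *ᵥ v13
  else if t.val = 3 then P7 v13 (M13 1 *ᵥ v13)
  else if t.val = 4 then P7 v13 (M13 2 *ᵥ v13)
  else if t.val = 5 then P7 (M13 1 *ᵥ v13) (M13 2 *ᵥ v13)
  else P7 v13 (P7 (M13 1 *ᵥ v13) (M13 2 *ᵥ v13))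
/-- the basis matrix for order `13` -/
def B13 : Matrix (Fin 7) (Fin 7) K3 := Matrix.of fun k t => T13 t k
theorem B13_inv : B13 * Bi13 = 1 := by decide +kernel

end Cfsg.Agent.H16.G23
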